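import Cfsg.Agent.Lib.Blocks.Vanishing
import Cfsg.Agent.Lib.BlocksChars5.Basic

/-!
# A height zero character fixed by a p-group of automorphisms

If a `p`-group acts on `G` and fixes the block `B`, it fixes a class `K` on which the idempotent of
`B` and its central character are units modulo `M`.  The averages of the characters over a Sylow
subgroup of the centralizer of a member of `K` are then invariant, and their sum against the degrees
has the least possible power of `p`; so an invariant character of height zero exists.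
-/

set_option autoImplicit false
set_option linter.unusedSectionVars false

namespace Cfsg.Agent.Lib.BlockStab

open Cfsg.Agent.Lib Cfsg.Agent.Lib.Blocks Cfsg.Agent.Lib.Characters.Basic
open scoped ComplexConjugate

universe u v

variable {G : Type u} [Group G] [Finite G]

/-- The character composed with an automorphism. -/
noncomputable def twist (χ : Cfsg.IrrCharacter G) (e : MulAut G) : Cfsg.IrrCharacter G :=
  ⟨fun g => (χ : G → ℂ) (e g), BlocksChars5.Basic.isIrr_comp_equiv χ e⟩

theorem twist_apply (χ : Cfsg.IrrCharacter G) (e : MulAut G) (g : G) :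
    (twist χ e : G → ℂ) g = (χ : G → ℂ) (e g) := rfl

theorem twist_injective (e : MulAut G) :
    Function.Injective (fun χ : Cfsg.IrrCharacter G => twist χ e) := fun χ ψ h => Subtype.ext <| by
  funext g
  simpa [twist_apply] using congrFun (congrArg Subtype.val h) (e.symm g)

theorem centralizer_map (e : MulAut G) (g : G) :
    Subgroup.centralizer ({e g} : Set G) =
      (Subgroup.centralizer ({g} : Set G)).map e.toMonoidHom := by
  ext x
  rw [Subgroup.mem_map_equiv, Subgroup.mem_centralizer_singleton_iff,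
    Subgroup.mem_centralizer_singleton_iff]
  constructor
  · intro h
    simpa using congrArg e.symm h
  · intro h
    simpa using congrArg e h

theorem centralChar_twist (χ : Cfsg.IrrCharacter G) (e : MulAut G) (g : G) :
    Cfsg.centralChar (χ : G → ℂ) (e g) = Cfsg.centralChar (twist χ e : G → ℂ) g := by
  rw [Cfsg.centralChar, Cfsg.centralChar, centralizer_map,
    Subgroup.index_map_of_bijective (f := e.toMonoidHom) e.bijective, twist_apply, twist_apply,
    map_one]

variable {p : ℕ} [Fact p.Prime] {M : Ideal Cfsg.AlgInt} [M.IsMaximal]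

/-- A set of characters invariant under an automorphism has invariant idempotent. -/
theorem blockCoeff_twist (B : Set (Cfsg.IrrCharacter G)) (e : MulAut G)
    (he : ∀ χ ∈ B, twist χ e ∈ B) (g : G) :
    Cfsg.blockCoeff B (e g) = Cfsg.blockCoeff B g := by
  rw [Cfsg.blockCoeff, Cfsg.blockCoeff]
  congr 1
  refine finsum_mem_eq_of_bijOn (fun χ => twist χ e) ?_ fun χ _ => ?_
  · exact ⟨he, (twist_injective e).injOn,
      fun θ hθ => by
        obtain ⟨χ, hχ, hχe⟩ := Set.surj_on_of_inj_on_of_ncard_le (fun χ (_ : χ ∈ B) => twist χ e)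
          he (fun a b _ _ hab => twist_injective e hab) le_rfl (Set.toFinite B) θ hθ
        exact ⟨χ, hχ, hχe.symm⟩⟩
  · simp only [twist_apply, map_one]

/-- The average over a Sylow subgroup of the centralizer is invariant under an automorphism that
fixes the element. -/
theorem sum_sylow_map_eq (χ : Cfsg.IrrCharacter G) (h : G) (s : MulAut G) (hs : s h = h)
    (C : Subgroup G) (hC : C = Subgroup.centralizer ({h} : Set G))
    (D0 : Sylow p C) [Fintype D0] :
    ∑ d : D0, (χ : G → ℂ) (h⁻¹ * s ((d : C) : G)) =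
      ∑ d : D0, (χ : G → ℂ) (h⁻¹ * ((d : C) : G)) := by
  have hsC : ∀ x : G, x ∈ C → s x ∈ C := fun x hx => by
    rw [hC, Subgroup.mem_centralizer_singleton_iff] at hx ⊢
    simpa [hs] using congrArg s hx
  set σ : C →* C := (s.toMonoidHom.comp C.subtype).codRestrict C (fun x => hsC x x.2) with hσ
  have hinj : Function.Injective σ := fun a b hab =>
    Subtype.ext (s.injective (congrArg Subtype.val hab))
  set D1 : Sylow p C := Sylow.ofCard ((D0 : Subgroup C).map σ)
    (by rw [Subgroup.card_map_of_injective hinj]; exact D0.card_eq_multiplicity) with hD1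
  obtain ⟨v, hv⟩ := MulAction.exists_smul_eq C D0 D1
  have hv' : (D0 : Subgroup C).map σ = (D0 : Subgroup C).map (MulAut.conj v).toMonoidHom := by
    rw [← Sylow.coe_ofCard (p := p) ((D0 : Subgroup C).map σ)
      (by rw [Subgroup.card_map_of_injective hinj]; exact D0.card_eq_multiplicity)]
    exact (congrArg Sylow.toSubgroup hv).symm
  haveI := Fintype.ofFinite ((D0 : Subgroup C).map σ)
  haveI := Fintype.ofFinite ((D0 : Subgroup C).map (MulAut.conj v).toMonoidHom)
  calc ∑ d : D0, (χ : G → ℂ) (h⁻¹ * s ((d : C) : G))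
      = ∑ d' : (D0 : Subgroup C).map σ, (χ : G → ℂ) (h⁻¹ * ((d' : C) : G)) :=
        Fintype.sum_equiv ((D0 : Subgroup C).equivMapOfInjective σ hinj).toEquiv _ _ fun d => rfl
    _ = ∑ d' : (D0 : Subgroup C).map (MulAut.conj v).toMonoidHom,
          (χ : G → ℂ) (h⁻¹ * ((d' : C) : G)) := by
        exact Fintype.sum_equiv (MulEquiv.subgroupCongr hv').toEquiv _ _ fun d => rfl
    _ = ∑ d : D0, (χ : G → ℂ) (h⁻¹ * ((d : C) : G)) := by
        refine (Fintype.sum_equiv ((D0 : Subgroup C).equivMapOfInjective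
          (MulAut.conj v).toMonoidHom (MulAut.conj v).injective).toEquiv _ _ fun d => ?_).symm
        have hvh : (v : G) * h = h * v := Subgroup.mem_centralizer_singleton_iff.mp (hC.le v.2)
        have hinv : h⁻¹ * (v : G) = v * h⁻¹ := by
          rw [eq_mul_inv_iff_mul_eq, mul_assoc, hvh, inv_mul_cancel_left]
        show (χ : G → ℂ) (h⁻¹ * ((d : C) : G)) =
          (χ : G → ℂ) (h⁻¹ * ((v : G) * ((d : C) : G) * (v : G)⁻¹))
        rw [show h⁻¹ * ((v : G) * ((d : C) : G) * (v : G)⁻¹) =
          (v : G) * (h⁻¹ * ((d : C) : G)) * (v : G)⁻¹ by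
            rw [← mul_assoc, ← mul_assoc, hinv, mul_assoc (v : G)], char_conj_apply]

/-- A `p`-group of automorphisms fixing a block fixes one of its characters of height zero. -/
theorem exists_fixed_height_zero (hM : Cfsg.IsPModular p M) {B : Set (Cfsg.IrrCharacter G)}
    (hB : Cfsg.IsPBlock M B) {Q : Type v} [Group Q] [Finite Q] (hQ : IsPGroup p Q)
    (φ : Q →* MulAut G) (hφ : ∀ q : Q, ∀ χ ∈ B, twist χ (φ q) ∈ B) :
    ∃ χ ∈ B, Cfsg.blockHeight p B (χ : G → ℂ) = 0 ∧
      ∀ (q : Q) (g : G), (χ : G → ℂ) (φ q g) = (χ : G → ℂ) g := by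
  classical
  letI := Ideal.Quotient.field M
  haveI := charP_residue hM
  haveI := Fintype.ofFinite G
  obtain ⟨χ₀, hχ₀⟩ := isPBlock_nonempty hB
  -- a fixed class
  haveI : Finite (ConjClasses G) := Quotient.finite _
  haveI := Fintype.ofFinite (ConjClasses G)
  letI actC : MulAction Q (ConjClasses G) :=
    { smul := fun q C => ConjClasses.map (φ q).toMonoidHom C
      one_smul := fun C => by
        obtain ⟨g, rfl⟩ := ConjClasses.exists_rep C
        show ConjClasses.mk (φ 1 g) = _
        simp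
      mul_smul := fun q q' C => by
        obtain ⟨g, rfl⟩ := ConjClasses.exists_rep C
        show ConjClasses.mk (φ (q * q') g) = ConjClasses.mk (φ q (φ q' g))
        simp }
  set f : ConjClasses G → Cfsg.AlgInt ⧸ M := fun C =>
    (blockIdemBar hB).1.coeff C.out * residue M (ccR M χ₀ C.out) with hf
  have hmk : ∀ C : ConjClasses G, ConjClasses.mk C.out = C := fun C => Quotient.out_eq C
  have hfinv : ∀ (q : Q) (C : ConjClasses G), f (q • C) = f C := by
    intro q C
    have hconj : IsConj (φ q C.out) (q • C).out := by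
      rw [← ConjClasses.mk_eq_mk_iff_isConj, hmk]
      show _ = ConjClasses.map (φ q).toMonoidHom C
      conv_rhs => rw [← hmk C]
      rfl
    simp only [hf, blockIdemBar, coeff_mapCenter]
    congr 1
    · congr 1
      refine Subtype.ext ?_
      rw [coe_coeff_blockIdemR, coe_coeff_blockIdemR, ← blockCoeff_eq_of_isConj B hconj,
        blockCoeff_twist B _ (hφ q)]
    · rw [← ccR_eq_of_isConj χ₀ hconj,
        show ccR M χ₀ (φ q C.out) = ccR M (twist χ₀ (φ q)) C.out from
          Subtype.ext (centralChar_twist χ₀ _ _),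
        residue_ccR_eq_of_mem hB (hφ q χ₀ hχ₀) hχ₀]
  have hsum : ∑ C : ConjClasses G, f C = 1 := by
    rw [hf, ← omegaBar_eq_sum χ₀ (blockIdemBar hB), omegaBar_blockIdemBar hB, if_pos hχ₀]
  rw [BrauerMap.Basic.sum_eq_sum_fixed hQ f hfinv] at hsum
  obtain ⟨C, hC, hCne⟩ := Finset.exists_ne_zero_of_sum_ne_zero (hsum.trans_ne one_ne_zero)
  have hCfix : ∀ q : Q, q • C = C := (Finset.mem_filter.mp hC).2
  set h := C.out with hh
  have hfix : ∀ q : Q, IsConj h (φ q h) := fun q => by
    rw [← ConjClasses.mk_eq_mk_iff_isConj, hh, hmk]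
    conv_lhs => rw [← hCfix q, ← hmk C]
    rfl
  have ha : residue M ((blockIdemR hB).1.coeff h) ≠ 0 := by
    have := left_ne_zero_of_mul hCne
    rwa [blockIdemBar, coeff_mapCenter] at this
  have hω : ∀ χ ∈ B, residue M (ccR M χ h) ≠ 0 := fun χ hχ => by
    rw [residue_ccR_eq_of_mem hB hχ hχ₀]
    exact right_ne_zero_of_mul hCne
  have hreg : ¬ p ∣ orderOf h := fun hd => ha <| by
    rw [show (blockIdemR hB).1.coeff h = 0 from Subtype.ext (by
      rw [coe_coeff_blockIdemR]; exact blockCoeff_eq_zero_of_dvd hM hB hd), map_zero]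
  -- numbers
  set Z := Subgroup.centralizer ({h} : Set G) with hZ
  obtain ⟨D0⟩ : Nonempty (Sylow p Z) := inferInstance
  haveI := Fintype.ofFinite D0
  set e := Z.index.factorization p with he
  set m := Nat.card G / p ^ (Nat.card G).factorization p with hm
  have hpm : ¬ p ∣ m := Nat.not_dvd_ordCompl hM.1 Nat.card_pos.ne'
  have hcardG : Nat.card G = p ^ e * Nat.card D0 * m := by
    have h1 : (Nat.card G).factorization p = e + (Nat.card Z).factorization p := by
      rw [← Z.index_mul_card, Nat.factorization_mul Z.index_ne_zero_of_finite Nat.card_pos.ne',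
        Finsupp.add_apply]
    rw [D0.card_eq_multiplicity, ← pow_add, ← h1]
    exact (Nat.ordProj_mul_ordCompl_eq_self (Nat.card G) p).symm
  have hdvd : ∀ χ ∈ B, p ^ e ∣ Cfsg.charDegree (χ : G → ℂ) := by
    intro χ hχ
    by_contra hnd
    set j := (Cfsg.charDegree (χ : G → ℂ)).factorization p with hj
    have hje : j < e := by
      by_contra hle
      exact hnd ((pow_dvd_pow p (not_lt.mp hle)).trans (Nat.ordProj_dvd _ _))
    set u := Cfsg.charDegree (χ : G → ℂ) / p ^ j with hu
    set i := Z.index / p ^ e with hi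
    have heq : ccR M χ h * (u : localRing M) =
        (p : localRing M) ^ (e - j) * (i : localRing M) *
          ⟨(χ : G → ℂ) h, char_mem_localRing χ h⟩ := by
      refine Subtype.ext ?_
      push_cast
      show Cfsg.centralChar (χ : G → ℂ) h * (u : ℂ) = _
      have h1 : (χ : G → ℂ) 1 = (p : ℂ) ^ j * u := by
        rw [char_one_eq_degree, ← Nat.ordProj_mul_ordCompl_eq_self
          (Cfsg.charDegree (χ : G → ℂ)) p]
        push_cast
        rfl
      have h2 : (Z.index : ℂ) = (p : ℂ) ^ (e - j) * (p : ℂ) ^ j * i := by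
        rw [← pow_add, Nat.sub_add_cancel hje.le]
        exact_mod_cast (Nat.ordProj_mul_ordCompl_eq_self Z.index p).symm
      have hu0 : (u : ℂ) ≠ 0 :=
        Nat.cast_ne_zero.mpr (Nat.ordCompl_pos p (Blocks.charDegree_pos χ).ne').ne'
      have hp0 : (p : ℂ) ^ j ≠ 0 := pow_ne_zero _ (Nat.cast_ne_zero.mpr hM.1.ne_zero)
      rw [Cfsg.centralChar, h1, ← hZ, h2]
      field_simp
    have := congrArg (residue M) heq
    rw [map_mul, map_mul, map_mul, map_pow, map_natCast, map_natCast, map_natCast,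
      (CharP.cast_eq_zero (Cfsg.AlgInt ⧸ M) p), zero_pow (by omega), zero_mul, zero_mul,
      mul_eq_zero] at this
    rcases this with h0 | h0
    · exact hω χ hχ h0
    · exact Nat.not_dvd_ordCompl hM.1 (Blocks.charDegree_pos χ).ne'
        ((CharP.cast_eq_zero_iff _ p u).mp h0)
  -- averages
  set avg : Cfsg.IrrCharacter G → ℂ := fun χ =>
    (Nat.card D0 : ℂ)⁻¹ * ∑ d : D0, (χ : G → ℂ) (h⁻¹ * ((d : Z) : G)) with havg
  have havgI : ∀ χ, avg χ ∈ localRing M := by
    intro χ
    set D := (D0 : Subgroup Z).map Z.subtype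
    haveI := Fintype.ofFinite D
    refine mem_localRing_of_isIntegral ?_
    have hmem : h⁻¹ ∈ Subgroup.centralizer (D : Set G) := by
      refine Subgroup.mem_centralizer_iff.mpr ?_
      rintro _ ⟨d, -, rfl⟩
      exact ((show Commute ((d : Z) : G) h from
        Subgroup.mem_centralizer_singleton_iff.mp d.2).inv_right).eq
    have := isIntegral_average_coset χ D hmem
    rw [Subgroup.card_map_of_injective Z.subtype_injective] at this
    convert this using 2
    exact Fintype.sum_equiv
      ((D0 : Subgroup Z).equivMapOfInjective Z.subtype Z.subtype_injective).toEquiv _ _ fun d => rfl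
  haveI := Fintype.ofFinite B
  set n : B → ℕ := fun χ => Cfsg.charDegree ((χ : Cfsg.IrrCharacter G) : G → ℂ) / p ^ e with hn
  have hkey : ∑ χ : B, (n χ : ℂ) * avg χ = (m : ℂ) * Cfsg.blockCoeff B h := by
    have hB1 : ∀ d : D0, ∑ χ : B, ((χ : Cfsg.IrrCharacter G) : G → ℂ) 1 *
        ((χ : Cfsg.IrrCharacter G) : G → ℂ) (h⁻¹ * ((d : Z) : G)) =
        (Nat.card G : ℂ) * Cfsg.blockCoeff B (h⁻¹ * ((d : Z) : G))⁻¹ := by
      intro d
      rw [Cfsg.blockCoeff, ← mul_assoc, mul_inv_cancel₀ (Nat.cast_ne_zero.mpr Nat.card_pos.ne'),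
        one_mul, ← finsum_set_coe_eq_finsum_mem, finsum_eq_sum_of_fintype]
      refine Finset.sum_congr rfl fun χ _ => ?_
      rw [← apply_inv (isCharacter_irr _), inv_inv]
    have hd0 : ∀ d : D0, d ≠ 1 → Cfsg.blockCoeff B (h⁻¹ * ((d : Z) : G))⁻¹ = 0 := by
      intro d hd
      refine blockCoeff_eq_zero_of_dvd hM hB ?_
      obtain ⟨k, hk⟩ := IsPGroup.iff_orderOf.mp D0.2 d
      rw [← Subgroup.orderOf_coe, ← Subgroup.orderOf_coe] at hk
      have hk0 : k ≠ 0 := fun h0 => hd <| Subtype.ext <| Subtype.ext <|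
        orderOf_eq_one_iff.mp (by simp [hk, h0])
      have hcomm : Commute h⁻¹ ((d : Z) : G) :=
        ((show Commute ((d : Z) : G) h from
          Subgroup.mem_centralizer_singleton_iff.mp (d : Z).2).inv_right).symm
      rw [orderOf_inv, hcomm.orderOf_mul_eq_mul_orderOf_of_coprime (by
        rw [orderOf_inv, hk]
        exact ((hM.1.coprime_iff_not_dvd.mpr hreg).pow_left k).symm), hk]
      exact (dvd_pow_self p hk0).mul_left _
    have hpe : (p : ℂ) ^ e ≠ 0 := pow_ne_zero _ (Nat.cast_ne_zero.mpr hM.1.ne_zero)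
    have hD : (Nat.card D0 : ℂ) ≠ 0 := Nat.cast_ne_zero.mpr Nat.card_pos.ne'
    have h1 : (p : ℂ) ^ e * ∑ χ : B, (n χ : ℂ) * avg χ =
        (p : ℂ) ^ e * ((m : ℂ) * Cfsg.blockCoeff B h) := by
      calc (p : ℂ) ^ e * ∑ χ : B, (n χ : ℂ) * avg χ
          = (Nat.card D0 : ℂ)⁻¹ * ∑ d : D0, ∑ χ : B,
              ((χ : Cfsg.IrrCharacter G) : G → ℂ) 1 *
                ((χ : Cfsg.IrrCharacter G) : G → ℂ) (h⁻¹ * ((d : Z) : G)) := by
            rw [Finset.sum_comm, Finset.mul_sum, Finset.mul_sum]
            refine Finset.sum_congr rfl fun χ _ => ?_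
            rw [← Finset.mul_sum, char_one_eq_degree, ← Nat.div_mul_cancel (hdvd _ χ.2)]
            push_cast
            simp only [hn, havg]
            ring
        _ = (Nat.card D0 : ℂ)⁻¹ * ((Nat.card G : ℂ) * Cfsg.blockCoeff B h) := by
            simp only [hB1]
            rw [Fintype.sum_eq_single (1 : ↥(D0 : Subgroup Z))
              (fun d hd => by rw [hd0 d hd, mul_zero])]
            simp
        _ = (p : ℂ) ^ e * ((m : ℂ) * Cfsg.blockCoeff B h) := by
            rw [hcardG]
            push_cast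
            field_simp
    exact mul_left_cancel₀ hpe h1
  -- fixed character
  letI actB : MulAction Q B :=
    { smul := fun q χ => ⟨twist χ.1 (φ q⁻¹), hφ q⁻¹ χ.1 χ.2⟩
      one_smul := fun χ => Subtype.ext <| Subtype.ext <| funext fun g => by
        show ((χ.1 : Cfsg.IrrCharacter G) : G → ℂ) (φ (1 : Q)⁻¹ g) = _
        simp
      mul_smul := fun q q' χ => Subtype.ext <| Subtype.ext <| funext fun g => by
        show ((χ.1 : Cfsg.IrrCharacter G) : G → ℂ) (φ (q * q')⁻¹ g) =
          ((χ.1 : Cfsg.IrrCharacter G) : G → ℂ) (φ q'⁻¹ (φ q⁻¹ g))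
        simp }
  have hsmul : ∀ (q : Q) (χ : B) (g : G), ((q • χ : B).1 : G → ℂ) g =
      ((χ.1 : Cfsg.IrrCharacter G) : G → ℂ) (φ q⁻¹ g) := fun q χ g => rfl
  have havginv : ∀ (q : Q) (χ : B), avg (q • χ : B).1 = avg χ.1 := by
    intro q χ
    obtain ⟨u, hu⟩ := isConj_iff.mp (hfix q⁻¹)
    set s : MulAut G := MulAut.conj u⁻¹ * φ q⁻¹ with hs
    have hsh : s h = h := by
      rw [hs, MulAut.mul_apply, ← hu, MulAut.conj_apply]
      group
    simp only [havg]
    congr 1
    rw [← sum_sylow_map_eq χ.1 h s hsh Z hZ D0]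
    refine Finset.sum_congr rfl fun d _ => ?_
    have key : h⁻¹ * s ((d : Z) : G) = s (h⁻¹ * ((d : Z) : G)) := by
      rw [map_mul, map_inv, hsh]
    rw [hsmul, key, hs, MulAut.mul_apply, MulAut.conj_apply, char_conj_apply]
  set F : B → Cfsg.AlgInt ⧸ M := fun χ =>
    (n χ : Cfsg.AlgInt ⧸ M) * residue M ⟨avg χ.1, havgI χ.1⟩ with hF
  have hFinv : ∀ (q : Q) (χ : B), F (q • χ) = F χ := by
    intro q χ
    have hd : n (q • χ) = n χ := by
      simp only [hn, Cfsg.charDegree, hsmul, map_one]
    simp only [hF, hd, havginv]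
  have hFsum : ∑ χ : B, F χ ≠ 0 := by
    have h1 : (∑ χ : B, (n χ : localRing M) * ⟨avg χ.1, havgI χ.1⟩) =
        (m : localRing M) * (blockIdemR hB).1.coeff h := by
      refine Subtype.ext ?_
      push_cast
      rw [coe_coeff_blockIdemR]
      exact hkey
    have h2 := congrArg (residue M) h1
    simp only [map_sum, map_mul, map_natCast] at h2
    simp only [hF]
    rw [h2]
    exact mul_ne_zero (fun h0 => hpm ((CharP.cast_eq_zero_iff _ p m).mp h0)) ha
  rw [BrauerMap.Basic.sum_eq_sum_fixed hQ F hFinv] at hFsum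
  obtain ⟨χ, hχ, hχne⟩ := Finset.exists_ne_zero_of_sum_ne_zero hFsum
  have hχfix : ∀ q : Q, q • χ = χ := (Finset.mem_filter.mp hχ).2
  refine ⟨χ.1, χ.2, ?_, fun q g => ?_⟩
  · have hpn : ¬ p ∣ n χ := fun hd =>
      left_ne_zero_of_mul hχne ((CharP.cast_eq_zero_iff _ p _).mpr hd)
    rw [Cfsg.blockHeight, Nat.sub_eq_zero_iff_le]
    refine le_csInf ⟨_, χ.1, χ.2, rfl⟩ ?_
    rintro _ ⟨ψ, hψ, rfl⟩
    have h1 : (Cfsg.charDegree (χ.1 : G → ℂ)).factorization p = e := by
      rw [← Nat.div_mul_cancel (hdvd _ χ.2), Nat.factorization_mul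
        (fun h0 => hpn (by simp only [hn, h0, dvd_zero])) (pow_ne_zero _ hM.1.ne_zero),
        Finsupp.add_apply, Nat.factorization_eq_zero_of_not_dvd hpn, zero_add,
        hM.1.factorization_pow, Finsupp.single_eq_same]
    rw [h1]
    exact (hM.1.pow_dvd_iff_le_factorization (Blocks.charDegree_pos ψ).ne').mp (hdvd ψ hψ)
  · have h1 := congrArg (fun x : B => ((x.1 : Cfsg.IrrCharacter G) : G → ℂ) g) (hχfix q⁻¹)
    simp only [hsmul, inv_inv] at h1
    exact h1

end Cfsg.Agent.Lib.BlockStab
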